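import Groth.Agent.S0601
import Groth.Agent.S2062
import Groth.Agent.Cohen4.RegHom
import Groth.Agent.FlatLoc6.Rk
import Groth.Agent.Alg6.AssDepth
import Groth.Agent.Alg6.LocLoc
import Mathlib

/-!
# Normality of flat local algebras over normal rings with reduced closed fibre of dimension at most one
-/

set_option autoImplicit false
set_option linter.style.haveILetI false
set_option backward.isDefEq.respectTransparency false
set_option backward.isDefEq.respectTransparency.types false

universe u

open IsLocalRing TensorProduct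

namespace Groth.Agent.FlatNormalLib

/-- `R₁` and `S₂` at the closed point. -/
def SerreAt (A : Type u) [CommRing A] [IsLocalRing A] : Prop :=
  (ringKrullDim A ≤ (1 : ℕ) → IsRegularLocalRing A) ∧
    min ((2 : ℕ) : WithBot ℕ∞) (ringKrullDim A) ≤ ((LocCoh.depth A A : ℕ∞) : WithBot ℕ∞)

theorem SerreAt.of_equiv {A B : Type u} [CommRing A] [IsLocalRing A] [CommRing B] [IsLocalRing B]
    (e : A ≃+* B) (h : SerreAt A) : SerreAt B := by
  have hd := ringKrullDim_eq_of_ringEquiv e
  refine ⟨fun hB => ?_, ?_⟩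
  · haveI := h.1 (hd.trans_le hB)
    exact IsRegularLocalRing.of_ringEquiv e
  · rw [← hd, ← Alg6.depth_eq_of_semilinear e.toRingHom e.surjective e.toAddEquiv fun r x => map_mul e r x]
    exact h.2

theorem serreAt_iff_localization (A : Type u) [CommRing A] (p : Ideal A) [p.IsPrime] :
    SerreAt (Localization.AtPrime p) ↔
      ((p.height ≤ (1 : ℕ) → IsRegularLocalRing (Localization.AtPrime p)) ∧
        min ((2 : ℕ) : WithBot ℕ∞) (Module.supportDim (Localization.AtPrime p) (LocalizedModule p.primeCompl A)) ≤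
          ((LocCoh.depth (Localization.AtPrime p) (LocalizedModule p.primeCompl A) : ℕ∞) : WithBot ℕ∞)) := by
  let e : LocalizedModule p.primeCompl A ≃ₗ[Localization.AtPrime p] Localization.AtPrime p :=
    ((IsLocalizedModule.iso p.primeCompl (Algebra.linearMap A (Localization.AtPrime p))).extendScalarsOfIsLocalization
      p.primeCompl (Localization.AtPrime p))
  rw [SerreAt, Module.supportDim_eq_of_equiv e, Module.supportDim_self_eq_ringKrullDim,
    Alg6.depth_eq_of_semilinear (RingHom.id _) Function.surjective_id e.toAddEquiv fun r x => e.map_smul r x,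
    IsLocalization.AtPrime.ringKrullDim_eq_height p (Localization.AtPrime p),
    show (((1 : ℕ) : WithBot ℕ∞)) = (((1 : ℕ) : ℕ∞) : WithBot ℕ∞) from rfl, WithBot.coe_le_coe]

theorem normal_iff_forall_serreAt (R : Type u) [CommRing R] [IsNoetherianRing R] :
    (∀ (p : Ideal R) [p.IsPrime], IsDomain (Localization.AtPrime p) ∧
      IsIntegrallyClosed (Localization.AtPrime p)) ↔
      ∀ (p : Ideal R) [p.IsPrime], SerreAt (Localization.AtPrime p) := by
  rw [S0601.result R]
  constructor
  · intro h p _
    exact (serreAt_iff_localization R p).2 ⟨h.1 p, h.2 p⟩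
  · exact fun h => ⟨fun p _ => ((serreAt_iff_localization R p).1 (h p)).1,
      fun p _ => ((serreAt_iff_localization R p).1 (h p)).2⟩

noncomputable def atMaxEquiv (A : Type u) [CommRing A] [IsLocalRing A] :
    A ≃+* Localization.AtPrime (maximalIdeal A) :=
  (IsLocalization.atUnits A (maximalIdeal A).primeCompl (S := Localization.AtPrime (maximalIdeal A))
    fun x hx => not_not.1 fun hu => hx hu).toRingEquiv

theorem serreAt_of_normal (A : Type u) [CommRing A] [IsLocalRing A] [IsNoetherianRing A] [IsDomain A]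
    [IsIntegrallyClosed A] : SerreAt A :=
  ((normal_iff_forall_serreAt A).1 (fun p _ => ⟨inferInstance,
    isIntegrallyClosed_of_isLocalization _ p.primeCompl p.primeCompl_le_nonZeroDivisors⟩) (maximalIdeal A)).of_equiv
      (atMaxEquiv A).symm

theorem normal_of_serreAt (R : Type u) [CommRing R] [IsLocalRing R] [IsNoetherianRing R]
    (h : ∀ (p : Ideal R) [p.IsPrime], SerreAt (Localization.AtPrime p)) :
    IsDomain R ∧ IsIntegrallyClosed R := by
  obtain ⟨h1, h2⟩ := (normal_iff_forall_serreAt R).2 h (maximalIdeal R)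
  exact ⟨(atMaxEquiv R).toMulEquiv.isDomain, IsIntegrallyClosed.of_equiv (atMaxEquiv R).symm⟩

theorem one_le_depth_of_reduced (F : Type u) [CommRing F] [IsLocalRing F] [IsNoetherianRing F] [IsReduced F]
    (h : ¬ IsField F) : (1 : ℕ∞) ≤ LocCoh.depth F F := by
  refine Alg6.one_le_depth_iff.2 fun hm => ?_
  obtain ⟨-, f, hf⟩ := (isAssociatedPrime_iff_exists_injective_linearMap _ _).1 hm
  have hx0 : f 1 ≠ 0 := fun h0 => one_ne_zero (α := F ⧸ maximalIdeal F) (hf (h0.trans (map_zero f).symm))
  have hkill : ∀ y ∈ maximalIdeal F, y * f 1 = 0 := fun y hy => by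
    rw [← smul_eq_mul, ← map_smul, Algebra.smul_def, mul_one]
    rw [show algebraMap F (F ⧸ maximalIdeal F) y = 0 from Ideal.Quotient.eq_zero_iff_mem.2 hy, map_zero]
  by_cases hu : IsUnit (f 1)
  · refine h (isField_iff_maximalIdeal_eq.2 ((Submodule.eq_bot_iff _).2 fun y hy => ?_))
    exact hu.mul_left_eq_zero.1 (hkill y hy)
  · exact hx0 (IsReduced.eq_zero _ ⟨2, by rw [pow_two]; exact hkill _ hu⟩)

theorem serreAt_of_flat (A B : Type u) [CommRing A] [IsLocalRing A] [IsNoetherianRing A] [IsDomain A]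
    [IsIntegrallyClosed A] [CommRing B] [IsLocalRing B] [IsNoetherianRing B] [Algebra A B]
    [IsLocalHom (algebraMap A B)] [Module.Flat A B]
    (hred : IsReduced (B ⧸ (maximalIdeal A).map (algebraMap A B)))
    (hdim : ringKrullDim (B ⧸ (maximalIdeal A).map (algebraMap A B)) ≤ (1 : ℕ))
    (hgen : IsField A → IsRegularLocalRing (B ⧸ (maximalIdeal A).map (algebraMap A B))) : SerreAt B := by
  set I := (maximalIdeal A).map (algebraMap A B) with hI
  have hI' : I ≠ ⊤ := fun hh => (maximalIdeal.isMaximal B).ne_top (top_le_iff.1 (hh.ge.trans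
    (Ideal.map_le_iff_le_comap.2 fun a ha => map_nonunit (algebraMap A B) a ha)))
  haveI : Nontrivial (B ⧸ I) := Ideal.Quotient.nontrivial_iff.2 hI'
  haveI : IsLocalRing (B ⧸ I) := .of_surjective' (Ideal.Quotient.mk I) Ideal.Quotient.mk_surjective
  haveI := hred
  have hA := serreAt_of_normal A
  have hdimB : ringKrullDim B = ringKrullDim A + ringKrullDim (B ⧸ I) := Cohen4.dim_eq_of_flat
  have hdepth : LocCoh.depth B B = LocCoh.depth A A + LocCoh.depth (B ⧸ I) (B ⧸ I) := by
    have h := S2062.result (R := A) (S := B) (M := A) (N := B)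
    rw [Alg6.depth_eq_of_semilinear (RingHom.id B) Function.surjective_id
      (AlgebraTensorModule.rid A B B).toAddEquiv fun r x => (AlgebraTensorModule.rid A B B).map_smul r x] at h
    rw [h]
    congr 1
    have heq : (I • (⊤ : Submodule B B)) = I := by rw [Ideal.smul_eq_mul, Ideal.mul_top]
    exact Alg6.depth_eq_of_semilinear (Ideal.Quotient.mk I) Ideal.Quotient.mk_surjective
      (Submodule.quotEquivOfEq _ _ heq).toAddEquiv fun r x => (Submodule.quotEquivOfEq _ _ heq).map_smul r x
  obtain ⟨a, ha⟩ : ∃ a : ℕ∞, ringKrullDim A = (a : WithBot ℕ∞) :=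
    WithBot.ne_bot_iff_exists.1 ringKrullDim_ne_bot |>.imp fun _ h => h.symm
  obtain ⟨f, hf⟩ : ∃ f : ℕ∞, ringKrullDim (B ⧸ I) = (f : WithBot ℕ∞) :=
    WithBot.ne_bot_iff_exists.1 ringKrullDim_ne_bot |>.imp fun _ h => h.symm
  have hA2 : min (2 : ℕ∞) a ≤ LocCoh.depth A A := by
    have := hA.2
    rw [ha] at this
    exact WithBot.coe_le_coe.1 this
  have hf1 : f ≤ 1 := by
    rw [hf] at hdim
    exact WithBot.coe_le_coe.1 hdim
  have hF : f ≤ LocCoh.depth (B ⧸ I) (B ⧸ I) := by
    rcases eq_or_ne f 0 with h0 | h0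
    · rw [h0]; exact zero_le
    · refine hf1.trans (one_le_depth_of_reduced _ fun hfld => h0 ?_)
      rw [ringKrullDim_eq_zero_of_isField hfld] at hf
      exact (WithBot.coe_eq_coe.1 hf).symm
  refine ⟨fun hB => ?_, ?_⟩
  · rw [hdimB, ha, hf, ← WithBot.coe_add] at hB
    have hle : a + f ≤ 1 := WithBot.coe_le_coe.1 hB
    haveI : IsRegularLocalRing A := hA.1 (ha.trans_le (WithBot.coe_le_coe.2 (le_self_add.trans hle)))
    refine FlatLoc6.isRegularLocalRing_of_flat_fibre (A := A) ?_
    rcases eq_or_ne a 0 with h0 | h0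
    · refine hgen ?_
      haveI : Ring.KrullDimLE 0 A := Ring.krullDimLE_iff.2 (by rw [ha, h0]; rfl)
      exact Ring.KrullDimLE.isField_of_isReduced
    · have hf0 : f = 0 := by
        by_contra hf0
        have h2 : (1 : ℕ∞) + 1 ≤ 1 := (add_le_add (Order.one_le_iff_ne_zero.2 h0)
          (Order.one_le_iff_ne_zero.2 hf0)).trans hle
        exact absurd h2 (by decide)
      haveI : Ring.KrullDimLE 0 (B ⧸ I) := Ring.krullDimLE_iff.2 (by rw [hf, hf0]; rfl)
      exact RegLoc6.isRegularLocalRing_of_isField Ring.KrullDimLE.isField_of_isReduced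
  · rw [hdimB, hdepth, ha, hf, ← WithBot.coe_add]
    refine WithBot.coe_le_coe.2 ?_
    refine le_trans ?_ (add_le_add hA2 hF)
    rcases le_total a 2 with h | h
    · rw [min_eq_right h]; exact min_le_right _ _
    · rw [min_eq_left h]; exact (min_le_left _ _).trans le_self_add

end Groth.Agent.FlatNormalLib
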